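import Groth.Agent.FlatMorSection.Irreducible
import Groth.Agent.FlatMorGeomIrr.Model

/-! Constructibility of section components. -/

universe u

open AlgebraicGeometry CategoryTheory Limits TopologicalSpace
open Groth.Agent.FlatMorGeomIrr

namespace Groth.Agent.FlatMorSection

set_option backward.isDefEq.respectTransparency false

theorem isConstructible_sectionComponents {X Y : Scheme.{u}} (f : X ⟶ Y) (s : Y ⟶ X)
    (hs : s ≫ f = 𝟙 Y) [LocallyOfFiniteType f] [QuasiCompact f] [IsLocallyNoetherian Y]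
    [CompactSpace Y] : Topology.IsConstructible (MoreMor.sectionComponents f s) := by
  haveI : IsLocallyNoetherian X := LocallyOfFiniteType.isLocallyNoetherian f
  haveI : CompactSpace X := QuasiCompact.compactSpace_of_compactSpace f
  haveI : IsNoetherian X := {}
  refine (H8Top.isConstructible_iff_forall_irreducible_closed _).2 fun Z hZ hZi => ?_
  set E := MoreMor.sectionComponents f s with hE
  obtain ⟨ζ, hζ⟩ := QuasiSober.sober hZi hZ
  obtain ⟨V, hVsub, hyV, hV, hcl, hop⟩ := exists_clopen_near f s hs (f ζ)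
  obtain ⟨U, hU, hUV⟩ := isOpen_induced_iff.1 hV
  have hfZ : ∀ x ∈ Z, f x ∈ closure {f ζ} := fun x hx =>
    ((hζ.specializes hx).map f.continuous).mem_closure
  have hmem : ∀ x ∈ Z, f x ∈ U → f x ∈ V := fun x hx hxU =>
    hUV.le (show (⟨f x, hfZ x hx⟩ : ↑(closure ({f ζ} : Set Y))) ∈ Subtype.val ⁻¹' U from hxU)
  have hζU : f ζ ∈ U := hUV.ge (show (⟨f ζ, subset_closure rfl⟩ : ↑(closure ({f ζ} : Set Y))) ∈
    Subtype.val ⁻¹' V from hyV)
  by_cases hζE : ζ ∈ E
  · refine Or.inr ⟨f ⁻¹' U, hU.preimage f.continuous, ⟨ζ, hζU, hζ.mem⟩, fun x hx => ?_⟩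
    obtain ⟨C, hC, hCE⟩ := isClosed_induced_iff.1 hcl
    have h1 : ζ ∈ C := hCE.ge (show (⟨ζ, hyV⟩ : ↑(f ⁻¹' V)) ∈ Subtype.val ⁻¹' E from hζE)
    have h2 : x ∈ C := (hζ.specializes hx.2).mem_closed hC h1
    exact hCE.le (show (⟨x, hmem x hx.2 hx.1⟩ : ↑(f ⁻¹' V)) ∈ Subtype.val ⁻¹' C from h2)
  · refine Or.inl ?_
    have hsub : closure (Subtype.val ⁻¹' E : Set Z) ⊆ (Subtype.val ⁻¹' (f ⁻¹' U))ᶜ := by
      refine closure_minimal (fun w hw hwU => hζE ?_)
        ((hU.preimage f.continuous).preimage continuous_subtype_val).isClosed_compl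
      obtain ⟨O, hO, hOE⟩ := isOpen_induced_iff.1 hop
      have h1 : (w : X) ∈ O :=
        hOE.ge (show (⟨w, hmem w w.2 hwU⟩ : ↑(f ⁻¹' V)) ∈ Subtype.val ⁻¹' E from hw)
      have h2 : ζ ∈ O := (hζ.specializes w.2).mem_open hO h1
      exact hOE.le (show (⟨ζ, hyV⟩ : ↑(f ⁻¹' V)) ∈ Subtype.val ⁻¹' O from h2)
    refine Set.eq_empty_of_subset_empty fun w hw => ?_
    obtain ⟨O, hOsub, hO, hwO⟩ := mem_interior.1 hw
    obtain ⟨O', hO', rfl⟩ := isOpen_induced_iff.1 hO
    have hζO : ζ ∈ O' := (hζ.specializes w.2).mem_open hO' hwO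
    exact hsub (hOsub (show (⟨ζ, hζ.mem⟩ : Z) ∈ Subtype.val ⁻¹' O' from hζO)) hζU

/-- Section components are carried along a homeomorphism over the base. -/
theorem mem_sectionComponents_congr {X X' S : Scheme.{u}} (f : X ⟶ S) (f' : X' ⟶ S) (s : S ⟶ X)
    (s' : S ⟶ X') (hs' : s' ≫ f' = 𝟙 S) (e : ↥X' ≃ₜ ↥X) (he : ∀ x, f (e x) = f' x)
    (hes : ∀ t, e (s' t) = s t) (x : X') :
    e x ∈ MoreMor.sectionComponents f s ↔ x ∈ MoreMor.sectionComponents f' s' := by
  have hset : f' ⁻¹' {f' x} = e ⁻¹' (f ⁻¹' {f' x}) := by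
    ext z; simp [he]
  show e x ∈ connectedComponentIn (f ⁻¹' {f (e x)}) (s (f (e x))) ↔
    x ∈ connectedComponentIn (f' ⁻¹' {f' x}) (s' (f' x))
  have hmem : s' (f' x) ∈ f' ⁻¹' {f' x} := by
    show f' (s' (f' x)) = f' x
    rw [← Scheme.Hom.comp_apply, hs']; rfl
  rw [he, ← hes, ← Homeomorph.image_preimage e (f ⁻¹' {f' x}), ← hset,
    ← e.image_connectedComponentIn hmem, e.injective.mem_set_image]

theorem isConstructible_sectionComponents_affine {X S : Scheme.{u}} (f : X ⟶ S) (s : S ⟶ X)
    (hs : s ≫ f = 𝟙 S) [LocallyOfFinitePresentation f] [QuasiCompact f] [QuasiSeparated f]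
    [CompactSpace S] [QuasiSeparatedSpace S] :
    Topology.IsConstructible (MoreMor.sectionComponents f s) := by
  obtain ⟨X₀, S₀, f₀, g, T₀, j, hN, hC, hft, hqc, hT₀, hj, hjf, hr⟩ := exists_closed_model f
  haveI := hN; haveI := hC; haveI := hft; haveI := hqc; haveI := hj
  let Sr := (Scheme.IdealSheafData.vanishingIdeal (X := S) ⊤).subscheme
  let r : Sr ⟶ S := (Scheme.IdealSheafData.vanishingIdeal (X := S) ⊤).subschemeι
  haveI : IsReduced Sr := Props12.isReduced_subscheme_vanishingIdeal _
  haveI hrsurj : Surjective r := ⟨Set.range_eq_univ.1 (by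
    rw [Scheme.IdealSheafData.range_subschemeι, Scheme.IdealSheafData.coe_support_vanishingIdeal]
    rfl)⟩
  let ι₀ := redι hT₀
  let σ : Sr ⟶ X₀ := r ≫ s ≫ j ≫ pullback.fst f₀ g
  have hσT : ∀ t, σ t ∈ T₀ := fun t => by
    have : j (s (r t)) ∈ pullback.fst f₀ g ⁻¹' T₀ := hr.le ⟨_, rfl⟩
    exact this
  haveI : Surjective (pullback.fst σ ι₀) := ⟨fun t => by
    obtain ⟨z, hz⟩ := (range_redι hT₀).ge (hσT t)
    obtain ⟨w, hw, -⟩ := Scheme.Pullback.exists_preimage_pullback (f := σ) (g := ι₀) t z hz.symm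
    exact ⟨w, hw⟩⟩
  haveI : IsIso (pullback.fst σ ι₀) := isIso_of_isClosedImmersion_of_surjective _
  let σ' := inv (pullback.fst σ ι₀) ≫ pullback.snd σ ι₀
  have hσ' : σ' ≫ ι₀ = σ := by
    simp only [σ', Category.assoc, ← pullback.condition, IsIso.inv_hom_id_assoc]
  let q := ι₀ ≫ f₀
  have hσq : σ' ≫ q = r ≫ g := by
    rw [← Category.assoc, hσ']
    simp only [σ, Category.assoc, pullback.condition]
    rw [reassoc_of% hjf, reassoc_of% hs]
  let X' := pullback q g
  let i' : X' ⟶ pullback f₀ g :=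
    pullback.lift (pullback.fst q g ≫ ι₀) (pullback.snd q g) (by
      rw [Category.assoc]; exact pullback.condition)
  have hsq : IsPullback i' (pullback.fst q g) (pullback.fst f₀ g) ι₀ := by
    refine IsPullback.of_right ?_ (pullback.lift_fst _ _ _) (IsPullback.of_hasPullback f₀ g).flip
    rw [pullback.lift_snd]
    exact (IsPullback.of_hasPullback q g).flip
  haveI : IsClosedImmersion i' :=
    MorphismProperty.of_isPullback (P := @IsClosedImmersion) hsq.flip inferInstance
  have hr' : Set.range i' = Set.range j := by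
    rw [hr, ← range_redι hT₀, ← hsq.isoPullback_hom_fst, Scheme.Hom.comp_base, TopCat.coe_comp,
      Set.range_comp, Set.range_eq_univ.2 (show Function.Surjective hsq.isoPullback.hom from
        hsq.isoPullback.hom.homeomorph.surjective), Set.image_univ, Scheme.Pullback.range_fst]
  let φ : ↥X' ≃ₜ ↥X :=
    i'.isEmbedding.toHomeomorph.trans ((Homeomorph.setCongr hr').trans j.isEmbedding.toHomeomorph.symm)
  have hφ : ∀ w, j (φ w) = i' w := fun w => by
    have := congrArg Subtype.val (j.isEmbedding.toHomeomorph.apply_symm_apply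
      (Homeomorph.setCongr hr' (i'.isEmbedding.toHomeomorph w)))
    exact this
  let fr := pullback.snd f r
  let sr : Sr ⟶ pullback f r := pullback.lift (r ≫ s) (𝟙 Sr) (by
    rw [Category.assoc, hs, Category.comp_id, Category.id_comp])
  let π : pullback f r ⟶ X := pullback.fst f r
  have hπ := sectionComponents_baseChange f s hs fr π r (IsPullback.of_hasPullback f r) sr
    (pullback.lift_snd _ _ _) (pullback.lift_fst _ _ _)
  -- the model over the reduced base
  let P := pullback q q
  let Δ : _ ⟶ P := pullback.diagonal q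
  let fP := pullback.snd q q
  haveI : LocallyOfFiniteType fP := MorphismProperty.pullback_snd _ _ inferInstance
  haveI : QuasiCompact fP := MorphismProperty.pullback_snd _ _ inferInstance
  haveI : LocallyOfFiniteType q := inferInstance
  haveI : IsLocallyNoetherian _ := LocallyOfFiniteType.isLocallyNoetherian q
  haveI := QuasiCompact.compactSpace_of_compactSpace q
  have hP := isConstructible_sectionComponents fP Δ (by simp [fP, Δ])
  let Xr := pullback fP σ'
  let fXr : Xr ⟶ Sr := pullback.snd fP σ'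
  let sXr : Sr ⟶ Xr := pullback.lift (σ' ≫ Δ) (𝟙 Sr) (by simp [fP, Δ])
  let a : Xr ⟶ X' := pullback.lift (pullback.fst fP σ' ≫ pullback.fst q q) (fXr ≫ r) (by
    rw [Category.assoc, pullback.condition, ← Category.assoc,
      show pullback.fst fP σ' ≫ pullback.snd q q = fXr ≫ σ' from pullback.condition,
      Category.assoc, Category.assoc]
    exact congrArg (fXr ≫ ·) (by simpa only [σ', Category.assoc] using hσq))
  have ha : IsPullback a fXr (pullback.snd q g) r := by
    refine IsPullback.of_right ?_ (pullback.lift_snd _ _ _) (IsPullback.of_hasPullback q g)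
    rw [pullback.lift_fst, ← hσq]
    exact (IsPullback.of_hasPullback fP σ').paste_horiz (IsPullback.of_hasPullback q q)
  have hPr := sectionComponents_baseChange fP Δ (by simp [fP, Δ]) fXr (pullback.fst fP σ') σ'
    (IsPullback.of_hasPullback fP σ') sXr (pullback.lift_snd _ _ _) (pullback.lift_fst _ _ _)
  haveI : IsClosedImmersion π := MorphismProperty.pullback_fst _ _ inferInstance
  haveI : Surjective π := MorphismProperty.pullback_fst _ _ inferInstance
  haveI : IsClosedImmersion a := MorphismProperty.of_isPullback (P := @IsClosedImmersion) ha.flip inferInstance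
  haveI : Surjective a := MorphismProperty.of_isPullback (P := @Surjective) ha.flip inferInstance
  let eπ : ↥(pullback f r) ≃ₜ ↥X :=
    π.isClosedEmbedding.isEmbedding.toHomeomorphOfSurjective π.surjective
  let ea : ↥Xr ≃ₜ ↥X' := a.isClosedEmbedding.isEmbedding.toHomeomorphOfSurjective a.surjective
  let e : ↥Xr ≃ₜ ↥(pullback f r) := (ea.trans φ).trans eπ.symm
  have heπ : ∀ x, π (e x) = φ (a x) := fun x => eπ.apply_symm_apply (φ (a x))
  have hef : ∀ x, fr (e x) = fXr x := fun x => by
    have h1 : r (fr (e x)) = r (fXr x) := by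
      rw [← Scheme.Hom.comp_apply, ← pullback.condition, Scheme.Hom.comp_apply, heπ,
        ← hjf, Scheme.Hom.comp_apply, hφ, ← Scheme.Hom.comp_apply, ← Scheme.Hom.comp_apply,
        ← Scheme.Hom.comp_apply, pullback.lift_snd, ha.w]
    exact r.isClosedEmbedding.injective h1
  have hkey : sXr ≫ a ≫ i' = r ≫ s ≫ j := by
    have e1 : sXr ≫ pullback.fst fP σ' = σ' ≫ Δ := pullback.lift_fst _ _ _
    have e2 : sXr ≫ fXr = 𝟙 Sr := pullback.lift_snd _ _ _
    apply pullback.hom_ext
    · simp only [i', a, Category.assoc, pullback.lift_fst, pullback.lift_fst_assoc]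
      rw [reassoc_of% e1, reassoc_of% (pullback.diagonal_fst q), hσ']
    · simp only [i', a, Category.assoc, pullback.lift_snd, hjf, hs]
      rw [reassoc_of% e2, Category.comp_id]
  have hes : ∀ t, e (sXr t) = sr t := fun t => by
    refine π.isClosedEmbedding.injective (j.isEmbedding.injective ?_)
    rw [heπ, hφ, ← Scheme.Hom.comp_apply, ← Scheme.Hom.comp_apply, ← Scheme.Hom.comp_apply sr,
      show sr ≫ π = r ≫ s from pullback.lift_fst _ _ _, ← Scheme.Hom.comp_apply, hkey, ← Category.assoc]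
  have hmem : ∀ x, π (e x) ∈ MoreMor.sectionComponents f s ↔
      pullback.fst fP σ' x ∈ MoreMor.sectionComponents fP Δ := fun x => by
    have h1 := mem_sectionComponents_congr fr fXr sr sXr (pullback.lift_snd _ _ _) e hef hes x
    rw [hπ, hPr] at h1
    exact h1
  haveI : CompactSpace Sr := QuasiCompact.compactSpace_of_compactSpace r
  haveI : QuasiSeparatedSpace Sr := quasiSeparatedSpace_of_quasiSeparated r
  haveI : QuasiCompact fXr := MorphismProperty.pullback_snd _ _ inferInstance
  have hXr : Topology.IsConstructible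
      ((pullback.fst fP σ') ⁻¹' MoreMor.sectionComponents fP Δ) := by
    haveI : CompactSpace X := QuasiCompact.compactSpace_of_compactSpace f
    haveI : QuasiSeparatedSpace X := quasiSeparatedSpace_of_quasiSeparated f
    haveI : CompactSpace Xr := QuasiCompact.compactSpace_of_compactSpace fXr
    haveI : QuasiSeparatedSpace Xr := (e.trans eπ).isOpenEmbedding.quasiSeparatedSpace
    exact (H8Lim.isLocallyConstructible_preimage _ hP.isLocallyConstructible).isConstructible
  have := hXr.preimage_of_isClosedEmbedding (e.trans eπ).symm.isClosedEmbedding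
  convert this (by simp) using 1
  ext x
  obtain ⟨x, rfl⟩ := (e.trans eπ).surjective x
  simp only [Set.mem_preimage, Homeomorph.symm_apply_apply]
  exact hmem x

theorem isLocallyConstructible_sectionComponents {X Y : Scheme.{u}} (f : X ⟶ Y) (s : Y ⟶ X)
    (hs : s ≫ f = 𝟙 Y) [LocallyOfFinitePresentation f] [QuasiCompact f] [QuasiSeparated f] :
    Topology.IsLocallyConstructible (MoreMor.sectionComponents f s) := by
  intro x
  obtain ⟨U, hU, hy, -⟩ := exists_isAffineOpen_mem_and_subset (X := Y) (x := f x) (U := ⊤) trivial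
  haveI : IsAffine U.toScheme := hU
  have hb := (isPullback_morphismRestrict f U).flip
  let sU : U.toScheme ⟶ (f ⁻¹ᵁ U).toScheme :=
    hb.lift (U.ι ≫ s) (𝟙 _) (by rw [Category.assoc, hs, Category.comp_id, Category.id_comp])
  have h := sectionComponents_baseChange f s hs (f ∣_ U) (f ⁻¹ᵁ U).ι U.ι hb sU
    (hb.lift_snd _ _ _) (hb.lift_fst _ _ _)
  have hc := isConstructible_sectionComponents_affine (f ∣_ U) sU (hb.lift_snd _ _ _)
  rw [h] at hc
  exact ⟨(f ⁻¹ᵁ U : Set X), (f ⁻¹ᵁ U).2.mem_nhds hy, (f ⁻¹ᵁ U).2, hc⟩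

end Groth.Agent.FlatMorSection
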