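import Groth.Prelude.Def_MoreMor
import Groth.Agent.SGA3cLib.GeomConn

/-! Section components commute with base change. -/

universe u

open AlgebraicGeometry CategoryTheory Limits

namespace Groth.Agent.FlatMorSection

set_option backward.isDefEq.respectTransparency false

theorem sectionComponents_baseChange {X Y X' Y' : Scheme.{u}} (f : X ⟶ Y) (s : Y ⟶ X)
    (hs : s ≫ f = 𝟙 Y) (f' : X' ⟶ Y') (g' : X' ⟶ X) (g : Y' ⟶ Y) (hc : IsPullback g' f' f g)
    (s' : Y' ⟶ X') (hs' : s' ≫ f' = 𝟙 Y') (hs'g : s' ≫ g' = g ≫ s) :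
    MoreMor.sectionComponents f' s' = g' ⁻¹' MoreMor.sectionComponents f s := by
  ext x'
  have hgx : f (g' x') = g (f' x') := by
    rw [← Scheme.Hom.comp_apply, hc.w, Scheme.Hom.comp_apply]
  have hsx : ∀ y, g' (s' y) = s (g y) := fun y => by
    rw [← Scheme.Hom.comp_apply, hs'g, Scheme.Hom.comp_apply]
  have hfs : ∀ y, f (s y) = y := fun y => by rw [← Scheme.Hom.comp_apply, hs]; rfl
  have hfs' : ∀ y, f' (s' y) = y := fun y => by rw [← Scheme.Hom.comp_apply, hs']; rfl
  constructor
  · intro h
    show g' x' ∈ connectedComponentIn (f ⁻¹' {f (g' x')}) (s (f (g' x')))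
    refine (isPreconnected_connectedComponentIn.image _ g'.continuous.continuousOn).subset_connectedComponentIn
      ⟨s' (f' x'), mem_connectedComponentIn (hfs' _), ?_⟩ ?_ ⟨x', h, rfl⟩
    · rw [hsx, hgx]
    · rintro _ ⟨z, hz, rfl⟩
      have := connectedComponentIn_subset _ _ hz
      simp only [Set.mem_preimage, Set.mem_singleton_iff] at this ⊢
      rw [hgx, ← Scheme.Hom.comp_apply, hc.w, Scheme.Hom.comp_apply, this]
  · intro h
    let y' := f' x'
    let y := g y'
    have h' : g' x' ∈ connectedComponentIn (f ⁻¹' {y}) (s y) := by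
      have := h
      simp only [MoreMor.sectionComponents, Set.mem_preimage, Set.mem_setOf_eq, hgx] at this
      exact this
    let sq : Spec (Y'.residueField y') ⟶ Spec (Y.residueField y) := Spec.map (g.residueFieldMap y')
    have hsq : sq ≫ Y.fromSpecResidueField y = Y'.fromSpecResidueField y' ≫ g :=
      g.SpecMap_residueFieldMap_fromSpecResidueField y'
    let p : f.fiber y ⟶ Spec (CommRingCat.of (Y.residueField y)) := f.fiberToSpecResidueField y
    let xpt : Spec (CommRingCat.of (Y.residueField y)) ⟶ f.fiber y :=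
      pullback.lift (Y.fromSpecResidueField y ≫ s) (𝟙 _) (by rw [Category.assoc, hs]; simp)
    have hxpt : xpt ≫ p = 𝟙 _ := pullback.lift_snd _ _ _
    let z₀ : Spec (CommRingCat.of (Y.residueField y)) := (⟨⊥, Ideal.isPrime_bot⟩ : PrimeSpectrum _)
    have hxι : f.fiberι y (xpt z₀) = s y := by
      rw [← Scheme.Hom.comp_apply, show xpt ≫ f.fiberι y = _ from pullback.lift_fst _ _ _,
        Scheme.Hom.comp_apply]
      exact congrArg s (Y.fromSpecResidueField_apply y z₀)
    obtain ⟨w, hw⟩ : g' x' ∈ Set.range (f.fiberι y) := by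
      rw [f.range_fiberι y]; exact connectedComponentIn_subset _ _ h'
    have hwc : w ∈ connectedComponent (xpt z₀) := by
      have hS : _root_.IsPreconnected (f.fiberι y ⁻¹' connectedComponentIn (f ⁻¹' {y}) (s y)) := by
        rw [← (f.fiberι y).isEmbedding.isInducing.isPreconnected_image,
          Set.image_preimage_eq_of_subset (by
            rw [f.range_fiberι y]; exact connectedComponentIn_subset _ _)]
        exact isPreconnected_connectedComponentIn
      refine hS.subset_connectedComponent ?_ (show f.fiberι y w ∈ _ by rwa [hw])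
      rw [Set.mem_preimage, hxι]
      exact mem_connectedComponentIn (hfs y)
    let Q := pullback p sq
    haveI : ConnectedSpace ↥(Spec (Y'.residueField y')) :=
      inferInstanceAs (ConnectedSpace (PrimeSpectrum (Y'.residueField y')))
    have hT := Groth.Agent.SGA3cLib.isPreconnected_preimage_connectedComponent _ p xpt hxpt
      (xpt z₀) ⟨z₀, rfl⟩ sq
    have big : IsPullback (pullback.fst p sq ≫ f.fiberι y) (pullback.snd p sq) f
        (sq ≫ Y.fromSpecResidueField y) :=
      (IsPullback.of_hasPullback p sq).paste_horiz (IsPullback.of_hasPullback _ _)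
    rw [hsq] at big
    let j : Q ⟶ X' := hc.lift (pullback.fst p sq ≫ f.fiberι y)
      (pullback.snd p sq ≫ Y'.fromSpecResidueField y') (by rw [Category.assoc _ _ g]; exact big.w)
    have hj : IsPullback j (pullback.snd p sq) f' (Y'.fromSpecResidueField y') := by
      refine IsPullback.of_right ?_ (hc.lift_snd _ _ _) hc
      rw [hc.lift_fst]
      exact big
    have hjr : Set.range j = f' ⁻¹' {y'} := by
      rw [← hj.isoPullback_hom_fst, Scheme.Hom.comp_base, TopCat.coe_comp, Set.range_comp,
        Set.range_eq_univ.2 (show Function.Surjective hj.isoPullback.hom from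
          hj.isoPullback.hom.homeomorph.surjective), Set.image_univ,
        Scheme.Pullback.range_fst, Scheme.range_fromSpecResidueField]
    have hjw : ∀ q : Q, g' (j q) = f.fiberι y (pullback.fst p sq q) := fun q => by
      rw [← Scheme.Hom.comp_apply, hc.lift_fst, Scheme.Hom.comp_apply]
    have hinj := (f.fiberι y).isEmbedding.injective
    obtain ⟨q₁, hq₁⟩ : x' ∈ Set.range j := by rw [hjr]; rfl
    obtain ⟨q₀, hq₀⟩ : s' y' ∈ Set.range j := by rw [hjr]; exact hfs' y'
    show x' ∈ connectedComponentIn (f' ⁻¹' {y'}) (s' y')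
    refine (hT.image _ j.continuous.continuousOn).subset_connectedComponentIn
      ⟨q₀, ?_, hq₀⟩ ?_ ⟨q₁, ?_, hq₁⟩
    · have : pullback.fst p sq q₀ = xpt z₀ := hinj (by rw [← hjw, hq₀, hsx, hxι])
      show pullback.fst p sq q₀ ∈ connectedComponent (xpt z₀)
      rw [this]; exact mem_connectedComponent
    · rintro _ ⟨q, -, rfl⟩
      rw [← hjr]; exact ⟨q, rfl⟩
    · have : pullback.fst p sq q₁ = w := hinj (by rw [← hjw, hq₁, hw])
      show pullback.fst p sq q₁ ∈ connectedComponent (xpt z₀)
      rw [this]; exact hwc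

end Groth.Agent.FlatMorSection
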