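import Groth.Agent.FlatMorSection.BaseChange
import Groth.Agent.FlatMorGeomIrr.CountOne
import Groth.Agent.FlatMorGeomIrr.Components

/-! Section components near the generic point of the base. -/

universe u

open AlgebraicGeometry CategoryTheory Limits TopologicalSpace
open Groth.Agent.FlatMorGeomIrr

namespace Groth.Agent.FlatMorSection

set_option backward.isDefEq.respectTransparency false

theorem isClosed_compl_connectedComponent {α : Type u} [TopologicalSpace α] [NoetherianSpace α]
    (a : α) : IsClosed (connectedComponent a)ᶜ := by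
  have h : (connectedComponent a)ᶜ =
      ⋃ T ∈ {T ∈ irreducibleComponents α | Disjoint T (connectedComponent a)}, T := by
    ext x
    simp only [Set.mem_compl_iff, Set.mem_iUnion, Set.mem_setOf_eq, exists_prop]
    constructor
    · intro hx
      refine ⟨irreducibleComponent x, ⟨irreducibleComponent_mem_irreducibleComponents x, ?_⟩,
        mem_irreducibleComponent⟩
      rw [Set.disjoint_left]
      intro z hz hza
      refine hx ?_
      rw [connectedComponent_eq hza]
      exact isIrreducible_irreducibleComponent.2.isPreconnected.subset_connectedComponent hz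
        mem_irreducibleComponent
    · rintro ⟨T, ⟨-, hT⟩, hxT⟩ hx
      exact Set.disjoint_left.mp hT hxT hx
  rw [h]
  exact (NoetherianSpace.finite_irreducibleComponents.subset (Set.sep_subset _ _)).isClosed_biUnion
    fun T hT => isClosed_of_mem_irreducibleComponents T hT.1

/-- The closure of a connected component of the generic fibre through the section has geometrically
connected generic fibre. -/
theorem geometricallyConnected_closure_component {X Y : Scheme.{u}} (f : X ⟶ Y) (s : Y ⟶ X)
    (hs : s ≫ f = 𝟙 Y) (η : Y) (C : Set ↥(f.fiber η))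
    (hC : ∃ a, f.fiberι η a = s η ∧ C = connectedComponent a) :
    GeometricallyConnected
      ((redι (isClosed_closure (s := f.fiberι η '' C)) ≫ f).fiberToSpecResidueField η) := by
  obtain ⟨a, ha, rfl⟩ := hC
  let ι := f.fiberι η
  let C0 : Set X := closure (ι '' connectedComponent a)
  let i := redι (isClosed_closure (s := ι '' connectedComponent a))
  have hiC : Set.range i = C0 := range_redι _
  have hpre : ι ⁻¹' C0 = connectedComponent a := by
    rw [← ι.isEmbedding.isInducing.closure_eq_preimage_closure_image]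
    exact isClosed_connectedComponent.closure_eq
  let g := i ≫ f
  let j : g.fiber η ⟶ f.fiber η :=
    pullback.map g (Y.fromSpecResidueField η) f (Y.fromSpecResidueField η) i (𝟙 _) (𝟙 _)
      (by simp [g]) (by simp)
  haveI : IsClosedImmersion j := MorphismProperty.pullbackMap (P := @IsClosedImmersion.{u})
    (inferInstance : IsClosedImmersion i) (inferInstance : IsClosedImmersion (𝟙 _)) (by simp [g]) (by simp)
  have hjι : ∀ w, ι (j w) = i (g.fiberι η w) := fun w => by
    rw [← Scheme.Hom.comp_apply, show j ≫ ι = g.fiberι η ≫ i from pullback.lift_fst _ _ _]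
    rfl
  have hjr : Set.range j = connectedComponent a := by
    refine subset_antisymm ?_ ?_
    · rintro _ ⟨w, rfl⟩
      refine hpre.le ?_
      rw [Set.mem_preimage, hjι, ← hiC]
      exact ⟨_, rfl⟩
    · intro w hw
      obtain ⟨z, hz⟩ : ι w ∈ Set.range i := by rw [hiC]; exact subset_closure ⟨w, hw, rfl⟩
      obtain ⟨w', rfl⟩ : z ∈ Set.range (g.fiberι η) := by
        rw [g.range_fiberι η, Set.mem_preimage, Set.mem_singleton_iff]
        show (i ≫ f) z = η
        rw [Scheme.Hom.comp_apply, hz]
        exact (f.range_fiberι η).le ⟨w, rfl⟩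
      exact ⟨w', ι.isEmbedding.injective (by rw [hjι, hz])⟩
  haveI : ConnectedSpace ↥(g.fiber η) := by
    haveI : ConnectedSpace (Set.range j) :=
      isConnected_iff_connectedSpace.mp (by rw [hjr]; exact isConnected_connectedComponent)
    exact j.isEmbedding.toHomeomorph.symm.surjective.connectedSpace
      j.isEmbedding.toHomeomorph.symm.continuous
  let xpt : Spec (CommRingCat.of (Y.residueField η)) ⟶ f.fiber η :=
    pullback.lift (Y.fromSpecResidueField η ≫ s) (𝟙 _) (by rw [Category.assoc, hs]; simp)
  have hxpt : xpt ≫ f.fiberToSpecResidueField η = 𝟙 _ := pullback.lift_snd _ _ _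
  have h := Groth.Agent.SGA3cLib.geometricallyConnected_of_rational_point (Y.residueField η)
    (f.fiberToSpecResidueField η) j xpt hxpt (by
      rintro _ ⟨z, rfl⟩
      show xpt z ∈ Set.range j
      rw [hjr]
      have : xpt z = a := ι.isEmbedding.injective (by
        rw [ha, ← Scheme.Hom.comp_apply, show xpt ≫ ι = _ from pullback.lift_fst _ _ _,
          Scheme.Hom.comp_apply]
        exact congrArg s (Y.fromSpecResidueField_apply η z))
      rw [this]
      exact mem_connectedComponent)
  have hcomp : j ≫ f.fiberToSpecResidueField η = g.fiberToSpecResidueField η :=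
    (pullback.lift_snd _ _ _).trans (Category.comp_id _)
  rw [hcomp] at h
  exact h

theorem exists_closed_split {X Y : Scheme.{u}} (f : X ⟶ Y) (s : Y ⟶ X) (hs : s ≫ f = 𝟙 Y)
    [IrreducibleSpace ↑Y] [LocallyOfFiniteType f] [QuasiCompact f] :
    ∃ (V : Y.Opens) (C D : Set X), (V : Set ↑Y).Nonempty ∧ IsClosed C ∧ IsClosed D ∧
      ∀ x, f x ∈ V → ((x ∈ MoreMor.sectionComponents f s ↔ x ∈ C) ∧ (x ∈ C ↔ x ∉ D)) := by
  let η := genericPoint ↑Y
  let ι := f.fiberι η
  have hfs : ∀ y, f (s y) = y := fun y => by rw [← Scheme.Hom.comp_apply, hs]; rfl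
  obtain ⟨a, ha⟩ : s η ∈ Set.range ι := by rw [f.range_fiberι η]; exact hfs η
  haveI : LocallyOfFiniteType (f.fiberToSpecResidueField η) :=
    MorphismProperty.pullback_snd _ _ inferInstance
  haveI : QuasiCompact (f.fiberToSpecResidueField η) :=
    MorphismProperty.pullback_snd _ _ inferInstance
  haveI : IsLocallyNoetherian (f.fiber η) :=
    LocallyOfFiniteType.isLocallyNoetherian (f.fiberToSpecResidueField η)
  haveI : CompactSpace ↥(f.fiber η) :=
    QuasiCompact.compactSpace_of_compactSpace (f.fiberToSpecResidueField η)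
  haveI : IsNoetherian (f.fiber η) := {}
  let C : Set X := closure (ι '' connectedComponent a)
  let D : Set X := closure (ι '' (connectedComponent a)ᶜ)
  have hCpre : ι ⁻¹' C = connectedComponent a := by
    rw [← ι.isEmbedding.isInducing.closure_eq_preimage_closure_image]
    exact isClosed_connectedComponent.closure_eq
  have hDpre : ι ⁻¹' D = (connectedComponent a)ᶜ := by
    rw [← ι.isEmbedding.isInducing.closure_eq_preimage_closure_image]
    exact (isClosed_compl_connectedComponent a).closure_eq
  obtain ⟨V₁, hV₁, hV₁'⟩ := FlatMorGeneric.exists_opens_forall_exists_specializes f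
  obtain ⟨V₂, hV₂, hV₂'⟩ := FlatMorGeneric.exists_opens_forall_closed_misses f
    ((isClosed_closure : IsClosed C).inter (isClosed_closure : IsClosed D)) (by
      rintro x ⟨hxC, hxD⟩ hx
      obtain ⟨w, rfl⟩ : x ∈ Set.range ι := by rw [f.range_fiberι η]; exact hx
      have h1 : w ∈ connectedComponent a := hCpre.le hxC
      exact (hDpre.le hxD) h1)
  let g := redι (isClosed_closure (s := ι '' connectedComponent a)) ≫ f
  have hg1 : MoreMor.nGeomConnComp g η = 1 :=
    (geometricallyConnected_iff_count g η).mp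
      (geometricallyConnected_closure_component f s hs η _ ⟨a, ha, rfl⟩)
  obtain ⟨V₃, hV₃, hV₃'⟩ := exists_opens_forall_counts_eq g
  have hgm : ∀ W : Y.Opens, (W : Set ↑Y).Nonempty → η ∈ W := fun W ⟨w, hw⟩ =>
    (genericPoint_specializes w).mem_open W.isOpen hw
  refine ⟨V₁ ⊓ V₂ ⊓ V₃, C, D, ⟨η, ⟨hgm _ hV₁, hgm _ hV₂⟩, hgm _ hV₃⟩, isClosed_closure,
    isClosed_closure, fun x hx => ?_⟩
  have hcov : ∀ z, f z ∈ V₁ → z ∈ C ∪ D := by
    intro z hz
    obtain ⟨z', hz', hsp⟩ := hV₁' z hz
    obtain ⟨w, rfl⟩ : z' ∈ Set.range ι := by rw [f.range_fiberι η]; exact hz'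
    by_cases h : w ∈ connectedComponent a
    · exact Or.inl (hsp.mem_closed isClosed_closure (hCpre.ge h))
    · exact Or.inr (hsp.mem_closed isClosed_closure (hDpre.ge h))
  have hdisj : ∀ z, f z ∈ V₂ → z ∈ C → z ∉ D := fun z hz hC hD => hV₂' z ⟨hC, hD⟩ hz
  refine ⟨⟨fun h => ?_, fun h => ?_⟩, ⟨hdisj x hx.1.2, (hcov x hx.1.1).resolve_right⟩⟩
  all_goals
    have hsC : s (f x) ∈ C := by
      have h1 : s η ∈ C := subset_closure ⟨a, mem_connectedComponent, ha⟩
      exact ((genericPoint_specializes (f x)).map s.continuous).mem_closed isClosed_closure h1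
  · by_contra hnC
    have h' : x ∈ connectedComponentIn (f ⁻¹' {f x}) (s (f x)) := h
    have hsub := connectedComponentIn_subset (f ⁻¹' {f x}) (s (f x))
    have hconn := isPreconnected_closed_iff.mp
      (isPreconnected_connectedComponentIn (F := f ⁻¹' {f x}) (x := s (f x))) C D isClosed_closure
      isClosed_closure (fun z hz => hcov z (by rw [show f z = f x from hsub hz]; exact hx.1.1))
      ⟨s (f x), mem_connectedComponentIn (hfs _), hsC⟩
      ⟨x, h', (hcov x hx.1.1).resolve_left hnC⟩
    obtain ⟨z, hz, hzC, hzD⟩ := hconn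
    exact hdisj z (by rw [show f z = f x from hsub hz]; exact hx.1.2) hzC hzD
  · have hgc : GeometricallyConnected (g.fiberToSpecResidueField (f x)) :=
      (geometricallyConnected_iff_count g (f x)).mpr ((hV₃' (f x) hx.2).2.trans hg1)
    haveI := hgc
    haveI : ConnectedSpace ↥(g.fiber (f x)) :=
      GeometricallyConnected.connectedSpace_of_subsingleton (f := g.fiberToSpecResidueField (f x))
    show x ∈ connectedComponentIn (f ⁻¹' {f x}) (s (f x))
    let m : ↥(g.fiber (f x)) → X := fun w =>
      redι (isClosed_closure (s := ι '' connectedComponent a)) (g.fiberι (f x) w)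
    have hm : ∀ z, f z = f x → z ∈ C → z ∈ Set.range m := by
      intro z hz hzC
      obtain ⟨z', rfl⟩ := (range_redι (isClosed_closure (s := ι '' connectedComponent a))).ge hzC
      obtain ⟨w, rfl⟩ : z' ∈ Set.range (g.fiberι (f x)) := by
        rw [g.range_fiberι (f x)]
        exact hz
      exact ⟨w, rfl⟩
    refine ((isPreconnected_univ (α := ↥(g.fiber (f x)))).image m
      ((Scheme.Hom.continuous _).comp (Scheme.Hom.continuous _)).continuousOn).subset_connectedComponentIn
      (by rw [Set.image_univ]; exact hm _ (hfs _) hsC) ?_ (by rw [Set.image_univ]; exact hm x rfl h)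
    rintro _ ⟨w, -, rfl⟩
    exact (g.range_fiberι (f x)).le ⟨w, rfl⟩

theorem exists_clopen_near {X Y : Scheme.{u}} (f : X ⟶ Y) (s : Y ⟶ X) (hs : s ≫ f = 𝟙 Y)
    [LocallyOfFiniteType f] [QuasiCompact f] (y : Y) :
    ∃ V : Set ↑Y, V ⊆ closure {y} ∧ y ∈ V ∧
      IsOpen (Subtype.val ⁻¹' V : Set ↑(closure ({y} : Set ↑Y))) ∧
      IsClopen (Subtype.val ⁻¹' MoreMor.sectionComponents f s : Set ↑(f ⁻¹' V)) := by
  let i := redι (X := Y) (isClosed_closure (s := ({y} : Set Y)))
  have hr : Set.range i = closure {y} := range_redι _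
  have hemb : Topology.IsClosedEmbedding i := i.isClosedEmbedding
  obtain ⟨z, hz⟩ := hr.ge (subset_closure rfl)
  have hgen : ∀ w, z ⤳ w := fun w => by
    rw [← hemb.isEmbedding.isInducing.specializes_iff, hz]
    exact specializes_iff_mem_closure.2 (hr.le ⟨w, rfl⟩)
  let W := (Scheme.IdealSheafData.vanishingIdeal (X := Y) ⟨closure {y}, isClosed_closure⟩).subscheme
  haveI : IrreducibleSpace ↥W := (irreducibleSpace_def _).2 (by
    rw [Set.top_eq_univ, ← Set.eq_univ_of_forall fun w => specializes_iff_mem_closure.1 (hgen w)]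
    exact isIrreducible_singleton.closure)
  let f' := pullback.snd f i
  let s' : W ⟶ pullback f i :=
    pullback.lift (i ≫ s) (𝟙 W) (by rw [Category.assoc, hs, Category.comp_id, Category.id_comp])
  haveI : LocallyOfFiniteType f' := MorphismProperty.pullback_snd _ _ inferInstance
  haveI : QuasiCompact f' := MorphismProperty.pullback_snd _ _ inferInstance
  let g' := pullback.fst f i
  haveI : IsClosedImmersion g' := MorphismProperty.pullback_fst _ _ inferInstance
  obtain ⟨V, C, D, hV, hC, hD, hCD⟩ := exists_closed_split f' s' (pullback.lift_snd _ _ _)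
  have hSC := sectionComponents_baseChange f s hs f' g' i (IsPullback.of_hasPullback f i) s'
    (pullback.lift_snd _ _ _) (pullback.lift_fst _ _ _)
  have hlift : ∀ x : X, f x ∈ i '' (V : Set W) → ∃ w, g' w = x ∧ f' w ∈ V := by
    rintro x ⟨w, hw, hwx⟩
    obtain ⟨t, ht, ht'⟩ := Scheme.Pullback.exists_preimage_pullback (f := f) (g := i) x w hwx.symm
    exact ⟨t, ht, show pullback.snd f i t ∈ V by rw [ht']; exact hw⟩
  refine ⟨i '' (V : Set W), fun _ ⟨w, _, h⟩ => h ▸ hr.le ⟨w, rfl⟩,
    ⟨z, ?_, hz⟩, ?_, ⟨?_, ?_⟩⟩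
  · obtain ⟨w, hw⟩ := hV
    exact (hgen w).mem_open V.isOpen hw
  · obtain ⟨U, hU, hUV⟩ := hemb.isEmbedding.isInducing.isOpen_iff.1 V.isOpen
    refine ⟨U, hU, ?_⟩
    rw [← hUV, Set.image_preimage_eq_inter_range, hr]
    ext w
    simp [w.2]
  · refine isClosed_induced_iff.mpr ⟨g' '' C, g'.isClosedEmbedding.isClosedMap _ hC, ?_⟩
    ext ⟨x, hx⟩
    obtain ⟨w, rfl, hw⟩ := hlift x hx
    simp only [Set.mem_preimage, g'.isClosedEmbedding.injective.mem_set_image]
    rw [← (hCD w hw).1, hSC]
    rfl
  · refine isClosed_compl_iff.mp ?_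
    refine isClosed_induced_iff.mpr ⟨g' '' D, g'.isClosedEmbedding.isClosedMap _ hD, ?_⟩
    ext ⟨x, hx⟩
    obtain ⟨w, rfl, hw⟩ := hlift x hx
    simp only [Set.mem_preimage, Set.mem_compl_iff, g'.isClosedEmbedding.injective.mem_set_image]
    have h1 := (hCD w hw).2
    have h2 := (hCD w hw).1
    rw [hSC] at h2
    rw [Set.mem_preimage] at h2
    rw [h2, h1, not_not]

end Groth.Agent.FlatMorSection
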